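import Groth.Agent.ExtFilt.Sheaf
import Groth.Agent.ExtPowSt.Det
import Groth.Agent.KoszTwLib.Tensor
import Groth.Agent.VBLib.Basic
import Groth.Agent.KFlat.TensorLocFree

/-!
# Germs of tensor powers and bases of stalks of tensor products
-/

set_option autoImplicit false
set_option backward.isDefEq.respectTransparency false
set_option linter.style.haveILetI false

universe u

open CategoryTheory CategoryTheory.Limits AlgebraicGeometry TopologicalSpace Opposite TensorProduct

noncomputable section

namespace Groth.Agent.TensorExt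

open Groth.Agent.PullStalk.Sky Groth.Agent.KFlat.StalkTensor

variable {X : Scheme.{u}}

/-- An element which freely generates. -/
def IsGen {R : Type u} [CommRing R] {M : Type u} [AddCommGroup M] [Module R M] (m : M) : Prop :=
  Function.Bijective fun r : R => r • m

/-- The pairing into the stalk of the tensor product of modules. -/
def pr (M N : X.Modules) (x : X) (m : M.presheaf.stalk x) (n : N.presheaf.stalk x) :
    (CohB1.tensorMod M N).presheaf.stalk x :=
  pairing M N x m n

theorem pr_germ {M N : X.Modules} (U : X.Opens) (x : X) (hx : x ∈ U) (m : Γ(M, U)) (n : Γ(N, U)) :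
    germM (CohB1.tensorMod M N) U x hx (SecTwist.tmul M N U m n) =
      pr M N x (germM M U x hx m) (germM N U x hx n) :=
  (pairing_germ U hx m n).symm

theorem pr_smul_left {M N : X.Modules} (x : X) (r : X.presheaf.stalk x) (m : M.presheaf.stalk x)
    (n : N.presheaf.stalk x) : pr M N x (r • m) n = r • pr M N x m n :=
  pairing_smul_left r m n

theorem pr_smul_right {M N : X.Modules} (x : X) (r : X.presheaf.stalk x) (m : M.presheaf.stalk x)
    (n : N.presheaf.stalk x) : pr M N x m (r • n) = r • pr M N x m n :=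
  pairing_smul_right r m n

/-- The stalk of a tensor product, typed for `tensorMod`. -/
def prEquiv (M N : X.Modules) (x : X) :
    M.presheaf.stalk x ⊗[X.presheaf.stalk x] N.presheaf.stalk x ≃ₗ[X.presheaf.stalk x]
      (CohB1.tensorMod M N).presheaf.stalk x :=
  (stalkTensorEquiv M N x).symm

theorem prEquiv_tmul {M N : X.Modules} (x : X) (m : M.presheaf.stalk x) (n : N.presheaf.stalk x) :
    prEquiv M N x (m ⊗ₜ n) = pr M N x m n :=
  rfl

/-- Tensoring with a generator. -/
theorem exists_equiv_pr (M : X.Modules) {N : X.Modules} {x : X} {l : N.presheaf.stalk x}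
    (hl : IsGen (R := X.presheaf.stalk x) l) :
    ∃ e : M.presheaf.stalk x ≃ₗ[X.presheaf.stalk x] (CohB1.tensorMod M N).presheaf.stalk x,
      ∀ m, e m = pr M N x m l := by
  let u : X.presheaf.stalk x ≃ₗ[X.presheaf.stalk x] N.presheaf.stalk x :=
    LinearEquiv.ofBijective (LinearMap.toSpanSingleton _ _ l) hl
  refine ⟨((TensorProduct.rid _ _).symm.trans
    (TensorProduct.congr (LinearEquiv.refl _ _) u)).trans (prEquiv M N x), fun m => ?_⟩
  rw [LinearEquiv.trans_apply, LinearEquiv.trans_apply, TensorProduct.rid_symm_apply,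
    TensorProduct.congr_tmul, prEquiv_tmul]
  show pr M N x m ((1 : X.presheaf.stalk x) • l) = _
  rw [one_smul]

theorem isGen_pr {M N : X.Modules} {x : X} {m : M.presheaf.stalk x} {n : N.presheaf.stalk x}
    (hm : IsGen (R := X.presheaf.stalk x) m) (hn : IsGen (R := X.presheaf.stalk x) n) :
    IsGen (R := X.presheaf.stalk x) (pr M N x m n) := by
  obtain ⟨e, he⟩ := exists_equiv_pr M hn
  have : (fun r : X.presheaf.stalk x => r • pr M N x m n) = e ∘ fun r : X.presheaf.stalk x => r • m :=
    funext fun r => by rw [Function.comp_apply, e.map_smul, he]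
  rw [IsGen, this]
  exact e.bijective.comp hm

/-- The tensor of germs. -/
def pw (L : X.Modules) (x : X) : (k : ℕ) → (Fin k → L.presheaf.stalk x) →
    (CohB1.tensorPow L k).presheaf.stalk x
  | 0, _ => germM (CohB1.tensorPow L 0) ⊤ x trivial (KoszTw.tprod L 0 ⊤ fun i => i.elim0)
  | k + 1, l => pr (CohB1.tensorPow L k) L x (pw L x k fun i => l (Fin.castSucc i)) (l (Fin.last k))

theorem pw_germ (L : X.Modules) (U : X.Opens) (x : X) (hx : x ∈ U) :
    ∀ (k : ℕ) (s : Fin k → Γ(L, U)), germM (CohB1.tensorPow L k) U x hx (KoszTw.tprod L k U s) =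
      pw L x k fun i => germM L U x hx (s i)
  | 0, s => by
    refine Eq.trans (congrArg (germM (CohB1.tensorPow L 0) U x hx) ?_)
      ((CohB1.tensorPow L 0).presheaf.germ_res_apply (homOfLE (le_top : U ≤ ⊤)) x hx
        (KoszTw.tprod L 0 ⊤ fun i => i.elim0))
    refine Eq.trans ?_ (KoszTw.map_tprod L 0 (homOfLE (le_top : U ≤ ⊤)) fun i => i.elim0).symm
    exact congrArg (KoszTw.tprod L 0 U) (funext fun i => i.elim0)
  | k + 1, s => by
    refine (pr_germ U x hx _ _).trans ?_
    rw [pw_germ L U x hx k]
    rfl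

theorem pw_smul (L : X.Modules) (x : X) : ∀ (k : ℕ) (a : Fin k → X.presheaf.stalk x)
    (l : Fin k → L.presheaf.stalk x), pw L x k (fun i => a i • l i) = (∏ i, a i) • pw L x k l
  | 0, a, l => by
    rw [Fin.prod_univ_zero, one_smul]
    rfl
  | k + 1, a, l => by
    rw [Fin.prod_univ_castSucc]
    refine (congrArg (fun t => pr (CohB1.tensorPow L k) L x t (a (Fin.last k) • l (Fin.last k)))
      (pw_smul L x k (fun i => a (Fin.castSucc i)) fun i => l (Fin.castSucc i))).trans ?_
    rw [pr_smul_left, pr_smul_right, smul_smul]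
    rfl

theorem isGen_one (L : X.Modules) (x : X) :
    IsGen (R := X.presheaf.stalk x) (pw L x 0 fun i => i.elim0) := by
  have h : LFFrame.IsFrame (CohB1.tensorPow L 0) (⊤ : X.Opens)
      ![KoszTw.tprod L 0 ⊤ fun i => i.elim0] := by
    intro V h
    have h1 : ∀ a : Fin 1 → Γ(X, V),
        LFFrame.comb (Coh.structureModule X) ![KoszTw.tprod L 0 ⊤ fun i => i.elim0] h a = a 0 := by
      intro a
      rw [LFFrame.comb, Fin.sum_univ_one]
      show (a 0 : Γ(X, V)) * X.presheaf.map (homOfLE h).op (1 : Γ(X, (⊤ : X.Opens))) = a 0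
      rw [map_one, mul_one]
    exact ⟨fun a b e => funext fun i => by rw [Fin.eq_zero i]; exact (h1 a).symm.trans (e.trans (h1 b)),
      fun c => ⟨fun _ => c, h1 _⟩⟩
  have h2 := (h.stalkComb_bijective x trivial).comp (Equiv.funUnique (Fin 1) (X.presheaf.stalk x)).symm.bijective
  unfold IsGen
  convert h2 using 1
  funext r
  simp [LFFrame.stalkComb, pw]
  rw [Fintype.linearCombination_apply, Fin.sum_univ_one]
  rfl

theorem isGen_pw {L : X.Modules} {x : X} {l : L.presheaf.stalk x}
    (hl : IsGen (R := X.presheaf.stalk x) l) :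
    ∀ k, IsGen (R := X.presheaf.stalk x) (pw L x k fun _ => l)
  | 0 => by
    convert isGen_one L x using 2
  | k + 1 => isGen_pr (isGen_pw hl k) hl

/-- The exterior power of an equivalence. -/
theorem bijective_map {R : Type u} [CommRing R] {M N : Type u} [AddCommGroup M] [Module R M]
    [AddCommGroup N] [Module R N] (k : ℕ) (e : M ≃ₗ[R] N) :
    Function.Bijective (exteriorPower.map k e.toLinearMap) := by
  refine Function.bijective_iff_has_inverse.2 ⟨exteriorPower.map k e.symm.toLinearMap, fun z => ?_, fun z => ?_⟩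
  · rw [← LinearMap.comp_apply, ← exteriorPower.map_comp]
    simp
  · rw [← LinearMap.comp_apply, ← exteriorPower.map_comp]
    simp

/-- A stalk basis of a module locally free of rank `r`. -/
theorem exists_stalk_basis {r : ℕ} {E : X.Modules} (hE : FlatMod.IsFinLocFreeOfRank r E) (z : X) :
    Nonempty (Module.Basis (Fin r) (X.presheaf.stalk z) (E.presheaf.stalk z)) := by
  obtain ⟨U, hz, ⟨ψ⟩⟩ := hE z
  obtain ⟨e, he⟩ := VBLib.exists_isFrame_of_iso ψ
  exact ⟨Module.Basis.ofEquivFun (LinearEquiv.ofBijective (LFFrame.stalkComb E e z hz)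
    (he.stalkComb_bijective z hz)).symm⟩

theorem isFinLocFree_of_rank {n : ℕ} {M : X.Modules} (h : FlatMod.IsFinLocFreeOfRank n M) :
    FlatMod.IsFinLocFree M := fun x => by
  obtain ⟨U, hx, e⟩ := h x
  exact ⟨U, n, hx, e⟩

end Groth.Agent.TensorExt

end
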